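import Cfsg.Agent.R2.Spec.X3.PL.NumOdd
import Cfsg.Agent.H813.UF.NumOdd

/-!
# Packet P-L of box X3 (S3435): the numeric lemma for odd indices, the conclusion (helper4)
-/

set_option autoImplicit false

namespace Cfsg.Agent.R2.Spec.X3.PL

/-- elimination, the case `δ (T - N) = x + 2` -/
theorem relA {y X D x δ : ℤ} (hA : D * (x + 2) = δ * ((y + 1) * X - 2)) (hB : D * (x ^ 2 + x + 1) = δ * (y * X ^ 2 - 1)) :
    (δ * ((y + 1) * X - 2)) ^ 2 - 3 * D * (δ * ((y + 1) * X - 2)) + 3 * D ^ 2 = D * (δ * (y * X ^ 2 - 1)) := by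
  rw [← hA, ← hB]; ring

/-- elimination, the case `δ (T - N) = 2 x + 1` -/
theorem relB {y X D x δ : ℤ} (hA : D * (2 * x + 1) = δ * ((y + 1) * X - 2))
    (hB : D * (x ^ 2 + x + 1) = δ * (y * X ^ 2 - 1)) :
    (δ * ((y + 1) * X - 2)) ^ 2 + 3 * D ^ 2 = 4 * D * (δ * (y * X ^ 2 - 1)) := by
  rw [← hA, ← hB]; ring

/-- elimination, the case `T - N = x` -/
theorem relC {y X D x : ℤ} (hA : D * x = (y + 1) * X - 2) (hB : D * (x ^ 2 + x + 1) = y * X ^ 2 - 1) :
    ((y + 1) * X - 2) ^ 2 + D * ((y + 1) * X - 2) + D ^ 2 = D * (y * X ^ 2 - 1) := by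
  rw [← hA, ← hB]; ring

theorem pow_cases {y : ℤ} {h : ℕ} (hy : 2 ≤ |y|) (hh : 1 ≤ h) :
    (2 ≤ y ∧ y ≤ y ^ h) ∨ (y ≤ -2 ∧ (y ^ 2 ≤ y ^ h ∨ y ^ h ≤ y)) := by
  rcases abs_cases y with ⟨a1, a2⟩ | ⟨a1, a2⟩
  · left
    have hy2 : 2 ≤ y := by omega
    exact ⟨hy2, le_self_pow₀ (by omega) (by omega)⟩
  · right
    have hy2 : y ≤ -2 := by omega
    refine ⟨hy2, ?_⟩
    rcases Nat.even_or_odd h with he | ho
    · left
      obtain ⟨k, rfl⟩ := he
      have hk : 1 ≤ k := by omega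
      rw [← two_mul, pow_mul]
      exact le_self_pow₀ (by nlinarith) (by omega)
    · right
      obtain ⟨k, rfl⟩ := ho
      rw [pow_succ]
      have h7 : 1 ≤ y ^ (2 * k) := by
        rw [pow_mul]
        exact one_le_pow₀ (by nlinarith)
      nlinarith

theorem eq_one_of_pow_eq {y : ℤ} {h : ℕ} (hy : 2 ≤ |y|) (h2 : y ^ h = y) : h = 1 := by
  have h3 : y.natAbs ^ h = y.natAbs ^ 1 := by rw [← Int.natAbs_pow, h2, pow_one]
  exact Nat.pow_right_injective (by
    rw [Int.abs_eq_natAbs] at hy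
    exact_mod_cast hy) h3

/-- the case `a d = 1`, type I -/
theorem one_I {y : ℤ} {h : ℕ} (hy : 2 ≤ |y|) (hh : 1 ≤ h)
    (hs : (y ^ h - 1) * ((y ^ 2 + 5 * y + 2) * y ^ h - (y ^ 2 + 3 * y + 4)) = 0) : y = -4 ∧ h = 1 := by
  have hyX : y ∣ y ^ h := dvd_pow_self y (by omega)
  have hc := pow_cases hy hh
  obtain ⟨X, hX⟩ : ∃ X, X = y ^ h := ⟨_, rfl⟩
  rw [← hX] at hs hyX hc
  rcases mul_eq_zero.1 hs with h5 | h5
  · exfalso
    rcases hc with ⟨h6, h7⟩ | ⟨h6, h7 | h7⟩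
    · omega
    · nlinarith
    · omega
  · rcases hc with ⟨h6, h7⟩ | ⟨h6, h7⟩
    · exfalso
      nlinarith [mul_le_mul_of_nonneg_left h7 (by nlinarith : 0 ≤ y ^ 2 + 5 * y + 2)]
    · rcases le_or_gt y (-7) with h8 | h8
      · exfalso
        have h9 : 16 ≤ y ^ 2 + 5 * y + 2 := by nlinarith
        rcases h7 with h7 | h7
        · have h10 : 7 ≤ X := by nlinarith
          nlinarith [mul_le_mul_of_nonneg_left h10 (by linarith : 0 ≤ y ^ 2 + 5 * y + 2)]
        · nlinarith [mul_le_mul_of_nonneg_left (by omega : X ≤ -7) (by linarith : 0 ≤ y ^ 2 + 5 * y + 2)]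
      · have h9 : y = -2 ∨ y = -3 ∨ y = -4 ∨ y = -5 ∨ y = -6 := by omega
        rcases h9 with rfl | rfl | rfl | rfl | rfl
        · exfalso; norm_num at h5; omega
        · exfalso; norm_num at h5; omega
        · norm_num at h5
          have h10 : X = -4 := by omega
          exact ⟨rfl, eq_one_of_pow_eq hy (by rw [← hX, h10])⟩
        · exfalso; norm_num at h5; omega
        · exfalso; norm_num at h5; omega

/-- the case `d = 1`, II4 -/
theorem one_C {y : ℤ} {h : ℕ} (hy : 2 ≤ |y|) (hh : 1 ≤ h) :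
    (3 * y + 1) * (y ^ h) ^ 2 + (y + 1) * (y - 5) * y ^ h + (y ^ 2 - 3 * y + 6) ≠ 0 := by
  have hc := pow_cases hy hh
  obtain ⟨X, hX⟩ : ∃ X, X = y ^ h := ⟨_, rfl⟩
  rw [← hX] at hc ⊢
  intro h0
  rcases hc with ⟨h6, h7⟩ | ⟨h6, h7⟩
  · obtain ⟨t, rfl⟩ : ∃ t, y = 2 + t := ⟨y - 2, by omega⟩
    obtain ⟨s, rfl⟩ : ∃ s, X = 2 + t + s := ⟨X - (2 + t), by omega⟩
    have ht : 0 ≤ t := by omega
    have hs : 0 ≤ s := by omega
    have : 0 < (3 * (2 + t) + 1) * (2 + t + s) ^ 2 + (2 + t + 1) * (2 + t - 5) * (2 + t + s) +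
        ((2 + t) ^ 2 - 3 * (2 + t) + 6) := by
      ring_nf
      positivity
    omega
  · obtain ⟨t, rfl⟩ : ∃ t, y = -2 - t := ⟨-2 - y, by omega⟩
    have ht : 0 ≤ t := by omega
    rcases h7 with h7 | h7
    · obtain ⟨s, rfl⟩ : ∃ s, X = (-2 - t) ^ 2 + s := ⟨X - (-2 - t) ^ 2, by ring⟩
      have hs : 0 ≤ s := by linarith
      have : 0 < -((3 * (-2 - t) + 1) * ((-2 - t) ^ 2 + s) ^ 2 + (-2 - t + 1) * (-2 - t - 5) * ((-2 - t) ^ 2 + s) +
          ((-2 - t) ^ 2 - 3 * (-2 - t) + 6)) := by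
        ring_nf
        positivity
      omega
    · obtain ⟨s, rfl⟩ : ∃ s, X = -2 - t - s := ⟨-2 - t - X, by ring⟩
      have hs : 0 ≤ s := by linarith
      have : 0 < -((3 * (-2 - t) + 1) * (-2 - t - s) ^ 2 + (-2 - t + 1) * (-2 - t - 5) * (-2 - t - s) +
          ((-2 - t) ^ 2 - 3 * (-2 - t) + 6)) := by
        ring_nf
        positivity
      omega

section

variable {y T N : ℤ} {d h : ℕ} (hy : 2 ≤ |y|) (hd : (d : ℤ) ∣ y - 1) (hdo : d % 2 = 1) (hh : 1 ≤ h)
  (h1 : h = 1 → d = 1) (hT : (y - 1) * d * T = y * (y ^ h) ^ 2 - 1)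
  (hN : (y - 1) * d * N = (y * y ^ h - 1) * (y ^ h - 1))
include hy hd hdo hh h1 hT hN

set_option linter.unusedSectionVars false in
theorem d_cases : d = 1 ∨ d = 3 ∨ 5 ≤ d := by omega

/-- type I, `Q = ± x` -/
theorem caseI {Q : ℤ} {a : ℕ} (hT13 : 13 ≤ T) (hao : a % 2 = 1) (ha9 : a ≤ 9) (hA : 2 * (T - N) = a * (1 + Q))
    (hB : 2 * T = a * (Q ^ 2 + 1)) : y = -4 ∧ h = 1 ∧ a = 1 ∧ Q = -5 := by
  obtain ⟨X, hX⟩ : ∃ X, X = y ^ h := ⟨_, rfl⟩
  have e1 : (y - 1) * d * (T - N) = (y + 1) * X - 2 := by rw [hX]; linear_combination hT - hN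
  have hs := H813.UF.star (U := y) (X := X) (D := ((a : ℤ) * d) * (y - 1)) (Q := Q)
    (by linear_combination (y - 1) * d * (-hA) + 2 * e1)
    (by rw [hX]; linear_combination (y - 1) * d * (-hB) + 2 * hT)
  rcases (by
    rcases Nat.eq_or_lt_of_le (Nat.one_le_iff_ne_zero.2 (Nat.mul_ne_zero (by omega : a ≠ 0) (by omega : d ≠ 0))) with h3 | h3
    · exact Or.inl h3.symm
    · right
      have : (a * d) % 2 = 1 := by rw [Nat.mul_mod, hao, hdo]
      omega : a * d = 1 ∨ 3 ≤ a * d) with h3 | h3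
  · obtain ⟨rfl, rfl⟩ : a = 1 ∧ d = 1 := ⟨Nat.eq_one_of_mul_eq_one_right h3, Nat.eq_one_of_mul_eq_one_left h3⟩
    obtain ⟨rfl, rfl⟩ := one_I hy hh (by rw [← hX]; linear_combination hs)
    refine ⟨rfl, rfl, rfl, ?_⟩
    rw [hX] at e1
    norm_num at e1 hA
    omega
  · exfalso
    have hex : ¬ (y = -2 ∧ a = 3 ∧ h = 1) := by
      rintro ⟨rfl, rfl, rfl⟩
      rw [h1 rfl] at hT
      norm_num at hT
      omega
    refine quad_S hy hd hdo hh (a := a) (by omega) h3 h1 hex ?_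
    rw [← hX]
    linear_combination hs

/-- the case II1 -/
theorem caseA {x δ : ℤ} (hδ : δ = 1 ∨ δ = 3) (hA : δ * (T - N) = x + 2) (hB : δ * T = x ^ 2 + x + 1) :
    y = x ∨ (δ = 3 ∧ d = 1 ∧ y = -3 ∧ 2 * x = 3 * y ^ h - 1) := by
  obtain ⟨X, hX⟩ : ∃ X, X = y ^ h := ⟨_, rfl⟩
  have e1 : (y - 1) * d * (T - N) = (y + 1) * X - 2 := by rw [hX]; linear_combination hT - hN
  have hc := pow_cases hy hh
  have hA' : ((d : ℤ) * (y - 1)) * (x + 2) = δ * ((y + 1) * X - 2) := by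
    rw [← e1, ← hA]; ring
  have hs := relA (y := y) (X := X) (D := (d : ℤ) * (y - 1)) (x := x) (δ := δ) hA'
    (by rw [← hB, hX, ← hT]; ring)
  have hX1 : X ≠ 1 := by
    rw [← hX] at hc
    rcases hc with ⟨h6, h7⟩ | ⟨h6, h7 | h7⟩
    · omega
    · nlinarith
    · omega
  have h3y : 3 * y + 1 ≠ 0 := by omega
  rcases hδ with rfl | rfl
  · rcases d_cases hy hd hdo hh h1 hT hN with rfl | h3 | h3
    · left
      have h4 : (3 * y + 1) * ((X - 1) * (X - y)) = 0 := by linear_combination hs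
      rcases mul_eq_zero.1 h4 with h5 | h5
      · exact absurd h5 h3y
      · rcases mul_eq_zero.1 h5 with h6 | h6
        · omega
        · have hXy : X = y := by omega
          rw [hXy] at hA'
          have h7 : (y - 1) * (x - y) = 0 := by linear_combination hA'
          rcases mul_eq_zero.1 h7 with h8 | h8
          · exfalso
            have : y = 1 := by omega
            rw [this] at hy
            norm_num at hy
          · omega
    · exfalso
      refine quad_A hy hd hdo hh (by omega) h1 ?_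
      rw [← hX]
      linear_combination hs
    · exfalso
      refine quad_A hy hd hdo hh (by omega) h1 ?_
      rw [← hX]
      linear_combination hs
  · rcases d_cases hy hd hdo hh h1 hT hN with rfl | rfl | h3
    · right
      push_cast at hs
      have h4 : (y + 3) * ((X - 1) * ((2 * y + 1) * X - (y + 2))) = 0 :=
        (mul_eq_zero.1 (by linear_combination hs :
          3 * ((y + 3) * ((X - 1) * ((2 * y + 1) * X - (y + 2)))) = 0)).resolve_left (by norm_num)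
      rcases mul_eq_zero.1 h4 with h5 | h5
      · have hy3 : y = -3 := by omega
        refine ⟨rfl, rfl, hy3, ?_⟩
        rw [← hX]
        rw [hy3] at hA'
        push_cast at hA'
        omega
      · exfalso
        rcases mul_eq_zero.1 h5 with h6 | h6
        · omega
        · rw [← hX] at hc
          rcases hc with ⟨h7, h8⟩ | ⟨h7, h8 | h8⟩ <;> nlinarith
    · exfalso
      push_cast at hs
      have h4 : (3 * y + 1) * ((X - 1) * (X - y)) = 0 :=
        (mul_eq_zero.1 (by linear_combination hs :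
          9 * ((3 * y + 1) * ((X - 1) * (X - y))) = 0)).resolve_left (by norm_num)
      rcases mul_eq_zero.1 h4 with h5 | h5
      · exact absurd h5 h3y
      · rcases mul_eq_zero.1 h5 with h6 | h6
        · omega
        · have := h1 (eq_one_of_pow_eq hy (by rw [← hX]; omega))
          omega
    · exfalso
      refine quad_A' hy hd hdo hh (by omega) h1 ((mul_eq_zero.1 (?_ : (3 : ℤ) * _ = 0)).resolve_left (by norm_num))
      rw [← hX]
      linear_combination hs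

/-- the case II2 -/
theorem caseB {x δ : ℤ} (hδ : δ = 1 ∨ δ = 3) (hx : x % 2 = 1) (hA : δ * (T - N) = 2 * x + 1)
    (hB : δ * T = x ^ 2 + x + 1) : False := by
  obtain ⟨X, hX⟩ : ∃ X, X = y ^ h := ⟨_, rfl⟩
  have e1 : (y - 1) * d * (T - N) = (y + 1) * X - 2 := by rw [hX]; linear_combination hT - hN
  have hA' : ((d : ℤ) * (y - 1)) * (2 * x + 1) = δ * ((y + 1) * X - 2) := by
    rw [← e1, ← hA]; ring
  have hs := relB (y := y) (X := X) (D := (d : ℤ) * (y - 1)) (x := x) (δ := δ) hA'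
    (by rw [← hB, hX, ← hT]; ring)
  rcases hδ with rfl | rfl
  · refine quad_B hy hd hdo hh h1 ?_
    rw [← hX]
    linear_combination hs
  · have hex : ¬ (y = 9 ∧ h = 1) := by
      rintro ⟨rfl, rfl⟩
      rw [h1 rfl, hX] at hA'
      norm_num at hA'
      omega
    refine quad_B' hy hd hdo hh h1 hex ((mul_eq_zero.1 (?_ : (3 : ℤ) * _ = 0)).resolve_left (by norm_num))
    rw [← hX]
    linear_combination hs

/-- the case II4 -/
theorem caseC {x : ℤ} (hA : T - N = x) (hB : T = x ^ 2 + x + 1) : False := by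
  obtain ⟨X, hX⟩ : ∃ X, X = y ^ h := ⟨_, rfl⟩
  have e1 : (y - 1) * d * (T - N) = (y + 1) * X - 2 := by rw [hX]; linear_combination hT - hN
  have hA' : ((d : ℤ) * (y - 1)) * x = (y + 1) * X - 2 := by
    rw [← e1, hA]; ring
  have hs := relC (y := y) (X := X) (D := (d : ℤ) * (y - 1)) (x := x) hA'
    (by rw [hX, ← hT, hB]; ring)
  rcases (by omega : d = 1 ∨ 3 ≤ d) with rfl | h3
  · refine one_C hy hh ?_
    rw [← hX]
    linear_combination hs
  · refine quad_C hy hd hdo hh h3 h1 ?_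
    rw [← hX]
    linear_combination hs

/-- **The numeric lemma for odd indices.** -/
theorem num_odd {p : ℕ} {x : ℤ} (hT13 : 13 ≤ T) (hK : (T - N) ^ 2 ≤ 5 * T) (hP : PairOut p x T N) :
    y = x ∨ (y = 3 ∧ h = 1 ∧ x = 5) ∨ (y = -4 ∧ h = 1 ∧ x = 5) ∨ (y = 9 ∧ h = 1 ∧ x = -17) ∨
      (y = -3 ∧ d = 1 ∧ 2 * x = 3 * y ^ h - 1 ∧ x % 4 = 3 ∧ (7 ≤ x ∨ x ≤ -13)) := by
  have hd1 : 1 ≤ d := by omega
  rcases hP with ⟨hx4, hx5, hO⟩ | ⟨hx4, hx7, hO⟩
  · rcases hO with ⟨h2, h3⟩ | ⟨-, h2, h3⟩ | ⟨-, a, ha, hao, h2, h3⟩ | h2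
    · exact absurd (no_dvd hy hh hT hN (K := T) (by omega) (by rw [show T - N = 1 by omega, one_mul]) hd1) id
    · obtain ⟨e1, e2, -, e4⟩ := caseI hy hd hdo hh h1 hT hN (Q := -x) (a := 1) hT13 (by norm_num) (by norm_num)
        (by push_cast; linarith) (by push_cast; linarith)
      exact Or.inr (Or.inr (Or.inl ⟨e1, e2, by omega⟩))
    · exfalso
      have ha9 : a ≤ 9 := by
        by_contra hcon
        push Not at hcon
        have e1 : 2 * (T - N) = a * (x + 1) := by linarith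
        have e2 : (2 * (T - N)) ^ 2 ≤ 5 * (2 * (2 * T)) := by linarith
        rw [e1, h2] at e2
        have e3 : a * (x + 1) ^ 2 ≤ 10 * (x ^ 2 + 1) := by
          have : a * (a * (x + 1) ^ 2) ≤ a * (10 * (x ^ 2 + 1)) := by linarith
          exact le_of_mul_le_mul_left this (by omega)
        nlinarith [mul_le_mul_of_nonneg_right (by omega : 10 ≤ a) (sq_nonneg (x + 1))]
      obtain ⟨b, rfl⟩ : ∃ b : ℕ, a = b := ⟨a.toNat, (Int.toNat_of_nonneg (by omega)).symm⟩
      obtain ⟨-, -, -, e4⟩ := caseI hy hd hdo hh h1 hT hN (Q := x) (a := b) hT13 (by omega) (by omega)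
        (by linarith) (by linarith)
      omega
    · obtain ⟨e1, ⟨e2, e3, e4⟩ | ⟨e2, e3, e4⟩⟩ := exc_cases hy hd hdo hh h1 hT hN (x := x) (by omega)
        (List.mem_append_left _ h2)
      · rw [e2, e3] at h2
        simp [excI] at h2
        exact Or.inr (Or.inl ⟨e4, e1, h2⟩)
      · rw [e2, e3] at h2
        simp [excI] at h2
  · rcases hO with ⟨δ, hδ, ⟨h2, h3⟩ | ⟨-, h2, h3⟩ | ⟨-, a, ha, hao, h2, h3⟩⟩ | ⟨h2, h3⟩ | h2
    · rcases caseA hy hd hdo hh h1 hT hN hδ (by linarith) h2 with h4 | ⟨-, h4, h5, h6⟩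
      · exact Or.inl h4
      · exact Or.inr (Or.inr (Or.inr (Or.inr ⟨h5, h4, h6, hx4, hx7⟩)))
    · exact (caseB hy hd hdo hh h1 hT hN hδ (by omega) (by linarith) h2).elim
    · exfalso
      have hδ0 : 0 < δ := by rcases hδ with rfl | rfl <;> norm_num
      have e1 : δ * (T - N) = a := by linarith
      have e2 : 0 < T - N := by
        by_contra hcon
        push Not at hcon
        nlinarith
      refine no_dvd hy hh hT hN (K := x ^ 2 + x + 1) e2 ?_ hd1
      have : δ * T = δ * ((T - N) * (x ^ 2 + x + 1)) := by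
        rw [h2, ← e1]; ring
      exact mul_left_cancel₀ hδ0.ne' this
    · exact (caseC hy hd hdo hh h1 hT hN (by linarith) h2).elim
    · obtain ⟨e1, ⟨e2, e3, e4⟩ | ⟨e2, e3, e4⟩⟩ := exc_cases hy hd hdo hh h1 hT hN (x := x) (by omega)
        (List.mem_append_right _ h2)
      · rw [e2, e3] at h2
        simp [excII] at h2
      · rw [e2, e3] at h2
        simp [excII] at h2
        exact Or.inr (Or.inr (Or.inr (Or.inl ⟨e4, e1, h2⟩)))

end

end Cfsg.Agent.R2.Spec.X3.PL
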