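import Cfsg.Agent.R2.Spec.X3.Size
import Cfsg.Agent.R2.Spec.X3.PL.NumOdd2
import Cfsg.Agent.R2.Spec.X3.PL.NumEven2
import Cfsg.Agent.H528.UF.RowLin
import Cfsg.Agent.H369.Ti.Elts

/-!
# Packet P-L of box X3 (S3435): `PSL_n(u)`, `PSU_n(u)`, `n ≥ 4`, given the pair lemma (helper4)
-/

set_option autoImplicit false

namespace Cfsg.Agent.R2.Spec.X3.PL

open Cfsg Cfsg.Agent.H403 Cfsg.Agent.H403.NumTop Cfsg.Agent.H528.UF
open Cfsg.Agent.H410.UF (exists_blk exists_blk')
open Cfsg.Agent.H813.UF (near_odd data_true data_false)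

/-- the pair lemma -/
def HasPair (p M : ℕ) (x : ℤ) (L : Type*) [Group L] : Prop :=
  ∀ T N : ℕ, (∃ g : L, orderOf g = T) → M ∣ T → (∃ g : L, orderOf g = N) → N ≠ 0 → Nat.Coprime N M →
    ((T : ℤ) - N) ^ 2 ≤ 5 * T → PairOut p x T N

/-- the data of the odd case over `ℤ` -/
theorem data {e : Bool} {u h d T N : ℕ} (hu : 2 ≤ u) (hT : T * (AA e 1 u * d) = AA e (2 * h + 1) u)
    (hN : N * (AA e 1 u * d) = AA e (h + 1) u * AA e h u) :
    (xv e u - 1) * d * T = xv e u * (xv e u ^ h) ^ 2 - 1 ∧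
      (xv e u - 1) * d * N = (xv e u * xv e u ^ h - 1) * (xv e u ^ h - 1) := by
  cases e with
  | true => exact data_true hu hT hN
  | false => exact data_false hu hT hN

theorem dvd_xv {e : Bool} {u d : ℕ} (hu : 1 ≤ u) (hd : d ∣ AA e 1 u) : (d : ℤ) ∣ xv e u - 1 := by
  have h1 : (d : ℤ) ∣ (AA e 1 u : ℤ) := by exact_mod_cast hd
  cases e with
  | true =>
    rw [H813.UF.AA_true _ _ hu, pow_one] at h1
    exact h1
  | false =>
    rw [H813.UF.AA_false_odd _ _ odd_one, pow_one] at h1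
    have e1 : xv false u - 1 = -((u : ℤ) + 1) := by
      unfold xv
      simp
      ring
    rw [e1, dvd_neg]
    exact h1

theorem abs_xv {e : Bool} {u : ℕ} : |xv e u| = u := by
  unfold xv
  cases e <;> simp

theorem xv_cases (e : Bool) (u : ℕ) : (e = true ∧ xv e u = u) ∨ (e = false ∧ xv e u = -u) := by
  unfold xv
  cases e <;> simp

theorem no_div {z : ℤ} (h9 : z % 9 = 6) (h4 : z % 4 = 1) (hb : 9 ≤ z ∨ z ≤ -11) (hd : z ∣ 135) : False := by
  have h1 : z.natAbs ∈ Nat.divisors 135 := Nat.mem_divisors.2 ⟨by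
    have := Int.natAbs_dvd_natAbs.2 hd
    simpa using this, by norm_num⟩
  have h2 : Nat.divisors 135 = {1, 3, 5, 9, 15, 27, 45, 135} := by decide +kernel
  rw [h2] at h1
  simp only [Finset.mem_insert, Finset.mem_singleton] at h1
  omega

/-- **The exceptional family** `u = 3`, `x = (3 (-3) ^ h - 1) / 2`. -/
theorem no_fam {p M : ℕ} {x : ℤ} {S : Type*} [Group S] (h : Cand p x M S) {m N : ℕ} (hm : 1 ≤ m)
    (hx : 2 * x = 3 * (-3) ^ m - 1) (hx4 : x % 4 = 3) (hx7 : 7 ≤ x ∨ x ≤ -13) (hN : ∃ g : S, orderOf g = N)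
    (hNv : N + 1 = 3 ^ (2 * m)) : False := by
  obtain ⟨X, hX⟩ : ∃ X : ℤ, X = (-3) ^ m := ⟨_, rfl⟩
  rw [← hX] at hx
  have h3X : (3 : ℤ) ∣ X := by
    rw [hX]
    exact dvd_trans (by norm_num) (dvd_pow_self (-3 : ℤ) (by omega))
  obtain ⟨w, hw⟩ := h3X
  have hNZ : (N : ℤ) = X ^ 2 - 1 := by
    have h1 : ((N + 1 : ℕ) : ℤ) = ((3 ^ (2 * m) : ℕ) : ℤ) := by exact_mod_cast hNv
    push_cast at h1
    have h2 : X ^ 2 = 3 ^ (2 * m) := by
      rw [hX, ← pow_mul, mul_comm m 2, pow_mul, pow_mul]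
      norm_num
    linarith
  -- the type
  have hty : TII x M 3 := by
    rcases h.typ with h1 | ⟨δ, h1⟩
    · have := h1.1
      omega
    · have h2 := h1.2.2.1
      rcases h2 with ⟨-, h2⟩ | ⟨h2, -⟩
      · omega
      · rwa [h2] at h1
  have hM4 : 4 * (M : ℤ) = 3 * X ^ 2 + 1 := by
    have h1 := hty.2.2.2
    have h2 : 4 * (3 * (M : ℤ)) = 3 * (3 * X ^ 2 + 1) := by
      rw [h1]
      have : 4 * (x ^ 2 + x + 1) = (2 * x) ^ 2 + 2 * (2 * x) + 4 := by ring
      rw [this, hx]
      ring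
    linarith
  have hcop : Nat.Coprime N M := by
    refine Nat.coprime_of_dvd fun s hs hsN hsM => ?_
    have h1 : (s : ℤ) ∣ N := by exact_mod_cast hsN
    have h2 : (s : ℤ) ∣ M := by exact_mod_cast hsM
    have h3 : (s : ℤ) ∣ 4 := by
      have := dvd_sub (Dvd.dvd.mul_left h2 4) (Dvd.dvd.mul_left h1 3)
      rwa [hM4, hNZ, show 3 * X ^ 2 + 1 - 3 * (X ^ 2 - 1) = 4 by ring] at this
    have h4 : s ∣ 2 ^ 2 := by exact_mod_cast h3
    have h5 := (Nat.prime_dvd_prime_iff_eq hs Nat.prime_two).1 (hs.dvd_of_dvd_pow h4)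
    have := h.M_odd
    rw [h5] at hsM
    omega
  have h9N : 9 * (N : ℤ) = 4 * ((x - 1) * (x + 2)) := by
    rw [hNZ]
    have : 9 * (X ^ 2 - 1) = (3 * X) ^ 2 - 9 := by ring
    rw [this, show 3 * X = 2 * x + 1 by linarith]
    ring
  have hz9 : (x + 2) % 9 = 6 := by omega
  have hz : ∀ K : ℤ, K ∣ 135 → x + 2 ∣ K → False := fun K hK hd =>
    no_div hz9 (by omega) (by omega) (hd.trans hK)
  have hx1 : x - 1 ≠ 0 := by omega
  have hpc : IsCoprime (x + 2) (p : ℤ) := by
    rw [isCoprime_comm, (Nat.prime_iff_prime_int.1 h.hp).coprime_iff_not_dvd]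
    intro h1
    have h2 := dvd_sub h1 h.p_dvd
    rw [show x + 2 - x = 2 by ring] at h2
    have := Int.le_of_dvd (by norm_num) h2
    have := h.h5
    omega
  have hdiv : x + 2 ∣ 9 * p → False := fun hd => hz 9 (by norm_num) (hpc.dvd_of_dvd_mul_right hd)
  rcases h.freeII hN hcop hty with k | k | k | k | k
  · refine hz 45 (by norm_num) ?_
    obtain ⟨c, hc⟩ := k
    have h1 : 9 * ((x ^ 2 + 1) * (x + 1)) = (x + 2) * (8 * (x - 1) * c) := by
      rw [hc]
      linear_combination 2 * c * h9N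
    refine ⟨9 * (x ^ 2 - x + 3) - 8 * (x - 1) * c, ?_⟩
    linear_combination -h1
  · refine hz 9 (by norm_num) ?_
    obtain ⟨c, hc⟩ := k
    have h1 : (x - 1) * (9 * (x + 1)) = (x - 1) * ((x + 2) * (4 * c)) := by
      linear_combination 9 * hc + c * h9N
    have h2 := mul_left_cancel₀ hx1 h1
    exact ⟨9 - 4 * c, by linear_combination -h2⟩
  · refine hdiv ?_
    obtain ⟨c, hc⟩ := k
    have h1 : (x - 1) * (9 * (p * (x + 1))) = (x - 1) * ((x + 2) * (8 * c)) := by
      linear_combination 9 * hc + 2 * c * h9N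
    have h2 := mul_left_cancel₀ hx1 h1
    exact ⟨9 * p - 8 * c, by linear_combination -h2⟩
  · refine hdiv ?_
    obtain ⟨c, hc⟩ := k
    have h1 : (x - 1) * (9 * (p : ℤ)) = (x - 1) * ((x + 2) * (4 * c)) := by
      linear_combination 9 * hc + c * h9N
    exact ⟨4 * c, mul_left_cancel₀ hx1 h1⟩
  · refine hz 27 (by norm_num) ?_
    obtain ⟨c, hc⟩ := k
    have h1 : (x - 1) * 27 = (x - 1) * ((x + 2) * (8 * c)) := by
      linear_combination 9 * hc + 2 * c * h9N
    exact ⟨8 * c, mul_left_cancel₀ hx1 h1⟩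

/-- `PSL₄(3)` has elements of order 9 -/
theorem exists_nine {F : Type*} [Field F] [Fintype F] (hF : Fintype.card F = 3) :
    ∃ g : Matrix.ProjectiveSpecialLinearGroup (Fin 4) F, orderOf g = 9 := by
  have hp : Fact (Nat.Prime 3) := ⟨Nat.prime_three⟩
  obtain ⟨g, hg⟩ := H369.Ti.Elts.l43'
  let f := LieClassical.FieldTransfer.pslCongr (ι := Fin 4)
    (FiniteField.ringEquivOfCardEq (K := ZMod 3) (K' := F) (by rw [hF, ZMod.card]))
  exact ⟨f g, by rw [MulEquiv.orderOf_eq, hg]⟩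

/-- **`PSL_n(u)`, `PSU_n(u)`, `n ≥ 4`** -/
theorem row_lin_of {F : Type*} [Field F] [Fintype F] {e : Bool} {n u : ℕ} {L : Type*} [Group L] [Finite L]
    (hL : H403.IsL L e n u F) (hF : Fintype.card F = u ^ (cond e 0 1 + 1)) (hn : 4 ≤ n) {p M : ℕ} {x : ℤ}
    (hpF : (p : F) ≠ 0) (h : Cand p x M L) (hpair : HasPair p M x L) : False := by
  have hu := H528.UF.two_le hF hn
  have hM13 := h.M_ge
  have hModd := h.M_odd
  have hfar : ∀ r : ℕ, r.Prime → r ∣ M → Far L r := fun r hr hrM =>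
    ⟨(h.prime_facts hr hrM).1, fun x hx => h.not_two_dvd hr hrM hx⟩
  have hMc : M ∣ Nat.card L := h.dvd_card dvd_rfl
  have hred := dvd_red hL hF hn hfar hMc
  obtain ⟨r, hr, hrM⟩ := h.exists_prime
  obtain ⟨g, hg⟩ := h.elt
  have hlin : Lin (AlgebraicClosure F) L e n u F := hL.lin hF (by omega)
  have hg0 : orderOf g ≠ 0 := (orderOf_pos g).ne'
  have hA0 : ∀ i, 1 ≤ i → 0 < AA e i u := fun i hi => H410.UF.AA_pos hu e hi
  have hcop : ∀ j, 1 ≤ j → j + 2 ≤ n → Nat.Coprime M (AA e j u) := fun j hj hjn =>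
    Nat.coprime_of_dvd fun s hs hsM hsA => not_low hL hF hn hs (hfar s hs hsM) hj hjn hsA
  have hc1 : Nat.Coprime M (AA e 1 u) := hcop 1 le_rfl (by omega)
  obtain ⟨d, hd⟩ : ∃ d, d = Nat.gcd n (AA e 1 u) := ⟨_, rfl⟩
  have hd1 : d ∣ AA e 1 u := hd ▸ Nat.gcd_dvd_right _ _
  have hd0 : 0 < d := hd ▸ Nat.gcd_pos_of_pos_left _ (by omega)
  have hcd : Nat.Coprime M d := hc1.coprime_dvd_right hd1
  have hup : xv e u ≠ x := by
    intro h1
    apply hpF
    apply natCast_eq_zero h.hp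
    rw [hF]
    refine Dvd.dvd.trans ?_ (dvd_pow_self u (Nat.succ_ne_zero _))
    have h2 := h.p_dvd
    rw [← h1, ← Int.dvd_natAbs] at h2
    have h3 : (xv e u).natAbs = u := by
      have := abs_xv (e := e) (u := u)
      rw [Int.abs_eq_natAbs] at this
      exact_mod_cast this
    rw [h3] at h2
    exact_mod_cast h2
  have hyabs : 2 ≤ |xv e u| := by rw [abs_xv]; exact_mod_cast hu
  have hhalf : ∀ k : ℕ, 2 * k = n ∨ 2 * k + 1 = n → M ∣ AA e (2 * k) u →
      ∃ H : ℕ, H * AA e k u = u ^ (2 * k) - 1 ∧ M ∣ H := by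
    intro k hk hMk
    obtain ⟨H, hH⟩ := exists_cof (e := e) (k := k) (u := u) (by omega)
    refine ⟨H, hH, ?_⟩
    rw [AA_even, ← hH] at hMk
    exact (hcop k (by omega) (by omega)).dvd_of_dvd_mul_right hMk
  have hdat : ∀ T : ℕ, (∃ g : L, orderOf g = T) → M ∣ T → ∃ a, T = a * M ∧ 1 ≤ a ∧ Dat x M a := by
    intro T hT hMT
    obtain ⟨a, ha, -, ha1, hI, hII⟩ := h.tor hT hMT
    refine ⟨a, ha, ha1, ?_⟩
    rcases h.typ with h1 | ⟨δ, h1⟩
    · exact Or.inl ⟨h1, hI h1.1⟩
    · exact Or.inr ⟨δ, h1, hII δ h1⟩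
  rcases order_cases hL hF hn hr (hfar r hr hrM) (hrM.trans hred) with ⟨hrn, hord⟩ | ⟨hrn, hord⟩
  · -- the Singer torus
    have h1 := H363.L4.Lin.dvd_top hlin hF (by omega) hr hord g (by rw [hg]; exact hrM) hg0
    rw [hg, ← hd] at h1
    obtain ⟨T, hT⟩ : AA e 1 u * d ∣ AA e n u := (dvd_mul_left _ _).trans h1
    have hT' : T * (AA e 1 u * d) = AA e n u := by rw [hT, mul_comm]
    have hpos : 0 < AA e 1 u * d := Nat.mul_pos (hA0 1 le_rfl) hd0
    have hMT : M ∣ T := by
      rw [← hT'] at h1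
      exact Nat.dvd_of_mul_dvd_mul_right hpos h1
    obtain ⟨t, ht⟩ := exists_topL hL hF hn
    rw [← hd, ← hT'] at ht
    obtain ⟨y, hy⟩ := exists_order_of_dvd (Nat.dvd_of_mul_dvd_mul_right hpos ht) (orderOf_pos t).ne'
    rcases Nat.even_or_odd n with hev | hodd
    · obtain ⟨k, hk⟩ : ∃ k, n = 2 * k := ⟨n / 2, by obtain ⟨m, hm⟩ := hev; omega⟩
      obtain ⟨H, hH, hMH⟩ := hhalf k (Or.inl hk.symm) (by
        rw [← hk, ← hT']
        exact hMT.mul_right _)
      rw [hk, AA_even] at hT'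
      rw [hd, hk] at hT'
      obtain ⟨a, rfl, ha1, hda⟩ := hdat T ⟨y, hy⟩ hMT
      rcases (by omega : k = 2 ∨ 3 ≤ k) with hk2 | hk3
      · have h2 := num_even_four e hu hM13 ha1 hda hH hMH hk2 hModd hT'
        apply hpF
        apply natCast_eq_zero h.hp
        rw [hF]
        refine Dvd.dvd.trans ?_ (dvd_pow_self u (Nat.succ_ne_zero _))
        have h3 := h.p_dvd
        rw [← h2] at h3
        exact_mod_cast h3
      · exact num_even_top3 e hu hM13 ha1 hda hH hMH hk3 hT'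
    · obtain ⟨k, hk⟩ : ∃ k, n = 2 * k + 1 := by obtain ⟨m, hm⟩ := hodd; exact ⟨m, hm⟩
      have hdn : d ∣ 2 * k + 1 := by rw [← hk, hd]; exact Nat.gcd_dvd_left _ _
      obtain ⟨N, hN⟩ : AA e 1 u * d ∣ AA e (k + 1) u * AA e k u :=
        Nat.mul_dvd_mul (H363.L4.AA_one_dvd (by omega)) (hd1.trans (H363.L4.AA_one_dvd (by omega)))
      have hN' : N * (AA e 1 u * d) = AA e (k + 1) u * AA e k u := by rw [hN, mul_comm]
      obtain ⟨z, hz⟩ := exists_blk hL hF (by omega) (a := k + 1) (b := k) (by omega) (by omega) (by simp) (by omega)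
      rw [← hN', ← hd] at hz
      obtain ⟨w, hw⟩ := exists_order_of_dvd (Nat.dvd_of_mul_dvd_mul_right hpos hz) (orderOf_pos z).ne'
      have hpos2 : 0 < AA e (k + 1) u * AA e k u := Nat.mul_pos (hA0 _ (by omega)) (hA0 _ (by omega))
      have hN0 : N ≠ 0 := by
        rintro rfl
        rw [zero_mul] at hN'
        omega
      have hT0 : T ≠ 0 := by
        rintro rfl
        rw [zero_mul] at hT'
        have := hA0 n (by omega)
        omega
      have hNM : Nat.Coprime N M := by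
        have h5 : Nat.Coprime M (AA e (k + 1) u * AA e k u) :=
          Nat.Coprime.mul_right (hcop _ (by omega) (by omega)) (hcop _ (by omega) (by omega))
        rw [← hN'] at h5
        exact (h5.coprime_dvd_right (dvd_mul_right _ _)).symm
      rw [hk] at hT'
      have hK := near_odd e hu (by omega) hd1 hdn hT' hN'
      obtain ⟨h7, h8⟩ := data hu hT' hN'
      have hT13 : (13 : ℤ) ≤ T := by
        have := Nat.le_of_dvd (Nat.pos_of_ne_zero hT0) hMT
        omega
      have hdo : d % 2 = 1 := by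
        obtain ⟨c, hc⟩ := hdn
        rcases Nat.mod_two_eq_zero_or_one d with h9 | h9
        · exfalso
          have : (d * c) % 2 = 0 := by rw [Nat.mul_mod, h9, zero_mul, Nat.zero_mod]
          omega
        · exact h9
      rcases num_odd hyabs (dvd_xv (by omega) hd1) hdo (by omega) (by omega) h7 h8 hT13 hK
        (hpair T N ⟨y, hy⟩ hMT ⟨w, hw⟩ hN0 hNM hK) with c1 | c1 | c1 | c1 | ⟨c1, c2, c3, c4, c5⟩
      · exact hup c1
      · omega
      · omega
      · omega
      · -- the exceptional family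
        obtain ⟨rfl, hu3⟩ : e = false ∧ u = 3 := by
          rcases xv_cases e u with ⟨he, hxv⟩ | ⟨he, hxv⟩
          · omega
          · exact ⟨he, by omega⟩
        subst hu3
        obtain ⟨s, hs⟩ := exists_subL hL hF hn
        rw [← hd, c2, mul_one, show n - 1 = 2 * k by omega, AA_even] at hs
        obtain ⟨v, hv⟩ := exists_order_of_dvd hs (orderOf_pos s).ne'
        rw [c1] at c3
        exact no_fam h (by omega : 1 ≤ k) c3 c4 c5 ⟨v, hv⟩ (Nat.sub_add_cancel (Nat.one_le_pow _ _ (by norm_num)))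
  · -- the torus of `GL_{n-1}`
    have h1 := H363.L4.Lin.dvd_pred hlin hF (by omega) hr hord g (by rw [hg]; exact hrM) hg0
    rw [hg, ← hd] at h1
    obtain ⟨t, ht⟩ := exists_subL hL hF hn
    rw [← hd] at ht
    rcases Nat.even_or_odd n with hev | hodd
    · obtain ⟨k, hk⟩ : ∃ k, n = 2 * k + 2 := ⟨n / 2 - 1, by obtain ⟨m, hm⟩ := hev; omega⟩
      have hk1 : n - 1 = 2 * k + 1 := by omega
      rw [hk1] at h1 ht
      obtain ⟨T, hT⟩ : AA e 1 u ∣ AA e (2 * k + 1) u := H363.L4.AA_one_dvd (by omega)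
      have hT' : T * (AA e 1 u * 1) = AA e (2 * k + 1) u := by rw [hT, mul_one, mul_comm]
      obtain ⟨N, hN⟩ : AA e 1 u ∣ AA e (k + 1) u * AA e k u := (H363.L4.AA_one_dvd (by omega)).mul_right _
      have hN' : N * (AA e 1 u * 1) = AA e (k + 1) u * AA e k u := by rw [hN, mul_one, mul_comm]
      have hMT : M ∣ T := by
        rw [hT] at h1
        exact hc1.dvd_of_dvd_mul_left ((dvd_mul_right _ _).trans h1)
      -- the whole torus
      obtain ⟨Q, hQ⟩ : d ∣ AA e (2 * k + 1) u := hd1.trans (H363.L4.AA_one_dvd (by omega))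
      have hMQ : M ∣ Q := by
        rw [hT] at h1
        have h2 : M ∣ d * Q := by rw [← hQ, hT]; exact hMT.mul_left _
        exact hcd.dvd_of_dvd_mul_left h2
      have hQt : Q ∣ orderOf t := by
        rw [hQ, mul_comm (orderOf t) d] at ht
        exact Nat.dvd_of_mul_dvd_mul_left hd0 ht
      obtain ⟨w2, hw2⟩ := exists_order_of_dvd hQt (orderOf_pos t).ne'
      have hTx : T ∣ orderOf t := by
        obtain ⟨c, hc⟩ := hd1
        rw [hT, hc, mul_comm (orderOf t) d, mul_assoc] at ht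
        exact (dvd_mul_left _ _).trans (Nat.dvd_of_mul_dvd_mul_left hd0 ht)
      obtain ⟨y, hy⟩ := exists_order_of_dvd hTx (orderOf_pos t).ne'
      obtain ⟨z, hz⟩ := exists_blk' hL hF (by omega) (a := k + 1) (b := k) (by omega) (by omega) (by simp) (by omega)
      rw [hN, mul_comm (AA e 1 u) N] at hz
      obtain ⟨w, hw⟩ := exists_order_of_dvd (Nat.dvd_of_mul_dvd_mul_right (hA0 1 le_rfl) hz) (orderOf_pos z).ne'
      have hpos2 : 0 < AA e (k + 1) u * AA e k u := Nat.mul_pos (hA0 _ (by omega)) (hA0 _ (by omega))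
      have hN0 : N ≠ 0 := by
        rintro rfl
        rw [zero_mul] at hN'
        omega
      have hT0 : T ≠ 0 := by
        rintro rfl
        rw [zero_mul] at hT'
        have := hA0 (2 * k + 1) (by omega)
        omega
      have hNM : Nat.Coprime N M := by
        have h5 : Nat.Coprime M (AA e (k + 1) u * AA e k u) :=
          Nat.Coprime.mul_right (hcop _ (by omega) (by omega)) (hcop _ (by omega) (by omega))
        rw [← hN'] at h5
        exact (h5.coprime_dvd_right (dvd_mul_right _ _)).symm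
      have hK := near_odd e hu (by omega) (one_dvd _) (one_dvd _) hT' hN'
      obtain ⟨h7, h8⟩ := data hu hT' hN'
      have hT13 : (13 : ℤ) ≤ T := by
        have := Nat.le_of_dvd (Nat.pos_of_ne_zero hT0) hMT
        omega
      rcases num_odd hyabs (dvd_xv (by omega) (one_dvd _)) (by norm_num) (by omega) (fun _ => rfl) h7 h8 hT13 hK
        (hpair T N ⟨y, hy⟩ hMT ⟨w, hw⟩ hN0 hNM hK) with c1 | ⟨c1, c2, c3⟩ | ⟨c1, c2, c3⟩ | ⟨c1, c2, c3⟩ | ⟨c1, c2, c3, c4, c5⟩
      · exact hup c1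
      · -- `L₄(3)`, `x = 5`
        obtain ⟨rfl, hu3⟩ : e = true ∧ u = 3 := by
          rcases xv_cases e u with ⟨he, hxv⟩ | ⟨he, hxv⟩
          · exact ⟨he, by omega⟩
          · omega
        subst hu3
        obtain ⟨f⟩ := hL
        obtain rfl : n = 4 := by omega
        obtain ⟨j, hj⟩ := exists_nine (F := F) (by rw [hF]; norm_num)
        have h9 := h.spec (f.symm j)
        have hp5 : p = 5 := by
          obtain ⟨m, hm1, hm⟩ := h.ex
          rw [c3] at hm
          have h10 : p ∣ 5 := by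
            rw [show (5 : ℤ).natAbs = 5 from rfl] at hm
            rw [hm]; exact dvd_pow_self p (by omega)
          exact (Nat.prime_dvd_prime_iff_eq h.hp (by norm_num)).1 h10
        rw [MulEquiv.orderOf_eq, hj, c3, hp5] at h9
        unfold Sp at h9
        rw [cc_one (by norm_num)] at h9
        norm_num at h9
      · -- `U₄(4)`, `x = 5`
        obtain ⟨rfl, hu4⟩ : e = false ∧ u = 4 := by
          rcases xv_cases e u with ⟨he, hxv⟩ | ⟨he, hxv⟩
          · omega
          · exact ⟨he, by omega⟩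
        subst hu4
        obtain rfl : k = 1 := by omega
        obtain rfl : n = 4 := by omega
        have hd' : d = 1 := by rw [hd]; decide
        have hQ65 : Q = 65 := by
          rw [hd', one_mul] at hQ
          rw [← hQ]
          decide
        rw [hQ65] at hw2 hMQ
        obtain ⟨a, ha, -, -, hI, -⟩ := h.tor ⟨w2, hw2⟩ hMQ
        have h9 := hI (by omega)
        have hM : M = 13 := by
          rcases h.typ with h10 | ⟨δ, h10, -⟩
          · have := h10.2.2
            rw [c3] at this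
            norm_num at this
            omega
          · omega
        rw [hM] at ha
        have ha5 : a = 5 := by omega
        rw [ha5, c3] at h9
        norm_num at h9
      · -- `L₄(9)`, `x = -17`
        obtain ⟨rfl, hu9⟩ : e = true ∧ u = 9 := by
          rcases xv_cases e u with ⟨he, hxv⟩ | ⟨he, hxv⟩
          · exact ⟨he, by omega⟩
          · omega
        subst hu9
        obtain rfl : k = 1 := by omega
        obtain rfl : n = 4 := by omega
        have hd' : d = 4 := by rw [hd]; decide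
        have hQ182 : Q = 182 := by
          rw [hd'] at hQ
          have h10 : AA true (2 * 1 + 1) 9 = 728 := by decide
          rw [h10] at hQ
          omega
        have := h.odd_of_M ⟨w2, hw2⟩ hMQ
        omega
      · -- the exceptional family
        obtain ⟨rfl, hu3⟩ : e = false ∧ u = 3 := by
          rcases xv_cases e u with ⟨he, hxv⟩ | ⟨he, hxv⟩
          · omega
          · exact ⟨he, by omega⟩
        subst hu3
        obtain ⟨s, hs⟩ := exists_blk' hL hF (by omega) (a := 2 * k) (b := 1) (by omega) le_rfl (by simp) (by omega)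
        have hs' := Nat.dvd_of_mul_dvd_mul_right (hA0 1 le_rfl) hs
        rw [AA_even] at hs'
        obtain ⟨v, hv⟩ := exists_order_of_dvd hs' (orderOf_pos s).ne'
        rw [c1] at c3
        exact no_fam h (by omega : 1 ≤ k) c3 c4 c5 ⟨v, hv⟩ (Nat.sub_add_cancel (Nat.one_le_pow _ _ (by norm_num)))
    · obtain ⟨k, hk⟩ : ∃ k, n = 2 * k + 1 := by obtain ⟨m, hm⟩ := hodd; exact ⟨m, hm⟩
      have hk1 : n - 1 = 2 * k := by omega
      rw [hk1] at h1 ht
      obtain ⟨T, hT⟩ : d ∣ AA e (2 * k) u := (dvd_mul_left _ _).trans h1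
      have hT' : T * d = AA e (2 * k) u := by rw [hT, mul_comm]
      have hMT : M ∣ T := by
        rw [← hT'] at h1
        exact Nat.dvd_of_mul_dvd_mul_right hd0 h1
      rw [← hT'] at ht
      obtain ⟨y, hy⟩ := exists_order_of_dvd (Nat.dvd_of_mul_dvd_mul_right hd0 ht) (orderOf_pos t).ne'
      obtain ⟨H, hH, hMH⟩ := hhalf k (Or.inr hk.symm) (by
        rw [← hT']
        exact hMT.mul_right _)
      rw [AA_even, hd, hk] at hT'
      obtain ⟨a, rfl, ha1, hda⟩ := hdat T ⟨y, hy⟩ hMT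
      exact num_even_pred e hu hM13 ha1 hda hH hMH (by omega) hT'

end Cfsg.Agent.R2.Spec.X3.PL
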