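import Cfsg.Agent.R2.Spec.X3.Pair
import Cfsg.Agent.R2.Spec.X3.PL.RowOf

/-!
# Packet P-L of box X3 (S3435): `PSL_n(u)`, `PSU_n(u)`, `n ≥ 4` (helper4)
-/

set_option autoImplicit false

namespace Cfsg.Agent.R2.Spec.X3.PL

open Cfsg Cfsg.Agent.H403

theorem hasPair {p M : ℕ} {x : ℤ} {L : Type*} [Group L] [Finite L] (h : Cand p x M L) : HasPair p M x L :=
  fun _ _ hT hMT hN hN0 hNM hK => h.pair hT hMT hN hN0 hNM hK

/-- **`PSL_n(u)`, `PSU_n(u)`, `n ≥ 4`** -/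
theorem row_lin {F : Type*} [Field F] [Fintype F] {e : Bool} {n u : ℕ} {L : Type*} [Group L] [Finite L]
    (hL : H403.IsL L e n u F) (hF : Fintype.card F = u ^ (cond e 0 1 + 1)) (hn : 4 ≤ n) {p M : ℕ} {x : ℤ}
    (hpF : (p : F) ≠ 0) (h : Cand p x M L) : False :=
  row_lin_of hL hF hn hpF h (hasPair h)

end Cfsg.Agent.R2.Spec.X3.PL
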